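import Cfsg.Agent.H211.Hup.NcFrame
import Cfsg.Agent.H704.S8.Defs
import Cfsg.Agent.H495.Cod.Basic

/-!
# S4908, box NC: no noncentral abelian chief factor below a sporadic group

`noncentral`: `Chief c D X` kills a noncentral minimal normal abelian `V` with `N / V = X` inside a group with degrees in `D`.
-/

set_option autoImplicit false
set_option linter.unusedSectionVars false
set_option linter.style.haveILetI false

universe u v

namespace Cfsg.Agent.H211.S8

open Cfsg Cfsg.Agent.Characters.Core Cfsg.Agent.H686.CharKit Cfsg.Agent.H672 Cfsg.Agent.H211.Hup Cfsg.Agent.H704.S8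
open Subgroup
open scoped ComplexConjugate commutatorElement

section Nc

variable {P : Type u} [Group P] [Finite P]

open Cfsg.Agent.OddOrderCharacters.PF9.CliffGen (irr_ind resTo)
open Cfsg.Agent.OddOrderCharacters.NormalInduced (conjFn)

/-- **NC0** with a factor `c`: small degrees force large inertia groups. -/
theorem nc_c (c : ℕ) (V : Subgroup P) [hV : V.Normal] (l : V →* ℂˣ) (T : Subgroup P)
    (hT : ∀ g, g ∈ T ↔ ∀ v : V, l (MulAut.conjNormal g v) = l v) (hVT : V ≤ T)
    (hB : ∀ χ : IrrCharacter P, charDegree (χ : P → ℂ) ^ 2 < c * V.index) :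
    T.index < c * Nat.card (ConjClasses (T ⧸ V.subgroupOf T)) ∧
      ∃ χ : IrrCharacter P, T.index ∣ charDegree (χ : P → ℂ) := by
  classical
  have := Fintype.ofFinite P
  have := Fintype.ofFinite V
  have := Fintype.ofFinite T
  have := finite_irr (G := T)
  have := Fintype.ofFinite (IrrCharacter T)
  let e : V.subgroupOf T ≃* V := Subgroup.subgroupOfEquivOfLe hVT
  let l' : V.subgroupOf T →* ℂˣ := l.comp e.toMonoidHom
  have hl' : ∀ x : V.subgroupOf T, l' x = l (e x) := fun _ => rfl
  have he : ∀ x : V.subgroupOf T, ((e x : V) : P) = ((x : T) : P) := fun _ => rfl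
  have hinv : ∀ (t : T) (v : V.subgroupOf T), l' (MulAut.conjNormal t v) = l' v := by
    intro t v
    rw [hl', hl', ← (hT t).1 t.2 (e v)]
    congr 1
  have hsum := sum_sq_ov (V.subgroupOf T) l' hinv
  set S := Finset.univ.filter fun χ : IrrCharacter T => Ov (V.subgroupOf T) l' (χ : T → ℂ) with hS
  have hidx : (V.subgroupOf T).index * T.index = V.index := Subgroup.relIndex_mul_index hVT
  have hT0 : 0 < T.index := Nat.pos_of_ne_zero Subgroup.index_ne_zero_of_finite
  have hVT0 : 0 < (V.subgroupOf T).index := Nat.pos_of_ne_zero Subgroup.index_ne_zero_of_finite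
  have hdeg' : ∀ χ ∈ S, ∃ ψ : IrrCharacter P, charDegree (ψ : P → ℂ) = T.index * charDegree (χ : T → ℂ) := by
    intro χ hχ
    have hov : Ov (V.subgroupOf T) l' (χ : T → ℂ) := (Finset.mem_filter.1 hχ).2
    have h1 : IsIrrCharacter P (indFun T (χ : T → ℂ)) := by
      refine irr_ind (N := V) (θ := lf l) (isIrr_lf l) (fun g => ?_) hVT χ.2 ?_
      · rw [hT, funext_iff]
        refine forall_congr' fun v => ?_
        exact ⟨fun h => congrArg Units.val h, fun h => Units.ext h⟩
      · have h2 : resTo hVT (χ : T → ℂ) = ((χ : T → ℂ) 1) • lf l := by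
          funext v
          have h3 := hov (e.symm v) 1
          rw [mul_one, hl', MulEquiv.apply_symm_apply] at h3
          have h4 : ((e.symm v : V.subgroupOf T) : T) = ⟨(v : P), hVT v.2⟩ := by
            apply Subtype.ext
            rw [← he, MulEquiv.apply_symm_apply]
          rw [h4] at h3
          show (χ : T → ℂ) ⟨(v : P), hVT v.2⟩ = _
          rw [h3, Pi.smul_apply, smul_eq_mul, lf_apply, mul_comm]
        rw [h2, classInner_smul_left, classInner_irr_self (isIrr_lf l), mul_one]
        exact isIrr_apply_one_ne_zero χ.2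
    have h5 : charDegree (indFun T (χ : T → ℂ)) = T.index * charDegree (χ : T → ℂ) := by
      apply charDegree_of_eq
      rw [OddOrderCharacters.InertiaAbelian.indFun_one, ← charDegree_irr χ]
      push_cast; rfl
    exact ⟨⟨_, h1⟩, h5⟩
  have hdeg : ∀ χ ∈ S, (T.index * charDegree (χ : T → ℂ)) ^ 2 < c * V.index := by
    intro χ hχ
    obtain ⟨ψ, hψ⟩ := hdeg' χ hχ
    rw [← hψ]
    exact hB ψ
  have hne : S.Nonempty := by
    rw [Finset.nonempty_iff_ne_empty]
    intro h0
    rw [h0, Finset.sum_empty] at hsum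
    omega
  have h7 : ∑ χ ∈ S, (T.index * charDegree (χ : T → ℂ)) ^ 2 = T.index ^ 2 * (V.subgroupOf T).index := by
    rw [← hsum, Finset.mul_sum]
    exact Finset.sum_congr rfl fun χ _ => by ring
  have h8 := Finset.sum_lt_sum_of_nonempty hne hdeg
  rw [h7, Finset.sum_const, smul_eq_mul, ← hidx] at h8
  have h9 : T.index < c * S.card := by
    have h10 : (T.index * (V.subgroupOf T).index) * T.index < (T.index * (V.subgroupOf T).index) * (c * S.card) := by
      nlinarith
    exact Nat.lt_of_mul_lt_mul_left h10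
  constructor
  · refine h9.trans_le (Nat.mul_le_mul_left c ?_)
    have h11 := card_ov_le (V.subgroupOf T) l'
    rwa [Nat.card_eq_fintype_card, Fintype.card_subtype] at h11
  · obtain ⟨χ, hχ⟩ := hne
    obtain ⟨ψ, hψ⟩ := hdeg' χ hχ
    exact ⟨ψ, by rw [hψ]; exact dvd_mul_right _ _⟩

end Nc

theorem frame {c : ℕ} {X : Type v} [Group X] [Finite X] {D : Set ℕ} {P : Type u} [Group P] [Finite P]
    (hdvd : ∀ χ : IrrCharacter P, ∃ d ∈ D, charDegree (χ : P → ℂ) ∣ d)
    (hB : ∀ χ : IrrCharacter P, charDegree (χ : P → ℂ) ^ 2 < c * Nat.card X)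
    (V : Subgroup P) [hV : V.Normal] (hab : ∀ a ∈ V, ∀ b ∈ V, a * b = b * a) (hVP : ⁅V, (⊤ : Subgroup P)⁆ = V)
    (f : P →* X) (hf : Function.Surjective f) (hk : f.ker = V) (habs : Chief.{u} c D X) : V = ⊥ := by
  classical
  let _ : CommGroup V := { (inferInstance : Group V) with
    mul_comm := fun a b => Subtype.ext (hab a a.2 b b.2) }
  have hcard : Nat.card (V →* ℂˣ) = Nat.card V := CommGroup.card_monoidHom_of_hasEnoughRootsOfUnity V ℂ
  have hfin : Finite (V →* ℂˣ) := Nat.finite_of_card_ne_zero (by rw [hcard]; exact Nat.card_pos.ne')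
  have hidx : V.index = Nat.card X := by
    rw [← hk, Subgroup.index_ker, MonoidHom.range_eq_top.2 hf, Nat.card_congr Subgroup.topEquiv.toEquiv]
  -- the action factors through `f`
  have hker : f.ker ≤ (dual V).ker := by
    intro a ha
    rw [hk] at ha
    rw [MonoidHom.mem_ker]
    apply MulEquiv.ext
    intro l
    show dual V a l = l
    rw [dual_eq_iff]
    intro v
    congr 1
    apply Subtype.ext
    show a * (v : P) * a⁻¹ = v
    rw [hab a ha v v.2, mul_inv_cancel_right]
  obtain ⟨ρ, hρ⟩ : ∃ ρ : X →* MulAut (V →* ℂˣ), ∀ g, ρ (f g) = dual V g := by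
    refine ⟨f.liftOfSurjective hf ⟨dual V, hker⟩, fun g => ?_⟩
    exact f.liftOfRightInverse_comp_apply _ _ ⟨dual V, hker⟩ g
  have key := habs (V →* ℂˣ) ρ ?_
  · have h1 : Nat.card (V →* ℂˣ) = 1 := by
      rw [Nat.card_eq_one_iff_unique]
      exact ⟨⟨fun a b => by rw [key a, key b]⟩, ⟨1⟩⟩
    rw [hcard] at h1
    exact Subgroup.eq_bot_of_card_eq V h1
  · intro l hl
    -- the inertia group
    let T : Subgroup P :=
      { carrier := {g | dual V g l = l}
        one_mem' := by
          show dual V 1 l = l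
          rw [map_one]; rfl
        mul_mem' := by
          intro a b ha hb
          show dual V (a * b) l = l
          rw [map_mul, MulAut.mul_apply, show dual V b l = l from hb, show dual V a l = l from ha]
        inv_mem' := by
          intro a ha
          show dual V a⁻¹ l = l
          have h1 : dual V a l = l := ha
          conv_lhs => rw [← h1]
          rw [← MulAut.mul_apply, ← map_mul, inv_mul_cancel, map_one]; rfl }
    have hT : ∀ g, g ∈ T ↔ dual V g l = l := fun g => Iff.rfl
    have hT' : ∀ g, g ∈ T ↔ ∀ v, l (MulAut.conjNormal g v) = l v := fun g => (hT g).trans (dual_eq_iff V g l)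
    have hVT : V ≤ T := by
      intro a ha
      rw [← hk] at ha
      rw [hT, MonoidHom.mem_ker.1 (hker ha)]
      rfl
    have hTtop : T ≠ ⊤ := by
      intro h
      apply hl
      have h1 : V ≤ l.ker.map V.subtype := by
        conv_lhs => rw [← hVP]
        rw [Subgroup.commutator_le]
        intro a ha g _
        have h2 : g ∈ T := by rw [h]; trivial
        have h3 := (hT' g).1 h2 ⟨a, ha⟩
        refine ⟨⟨a, ha⟩ * (MulAut.conjNormal g ⟨a, ha⟩)⁻¹, ?_, ?_⟩
        · show l _ = 1
          rw [map_mul, map_inv, h3, mul_inv_cancel]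
        · show a * (g * a * g⁻¹)⁻¹ = a * g * a⁻¹ * g⁻¹
          group
      ext v
      obtain ⟨w, hw, hwv⟩ := h1 v.2
      have h2 : w = v := Subtype.ext hwv
      rw [← h2]
      exact congrArg Units.val hw
    obtain ⟨hnc, ψ, hψ⟩ := nc_c c V l T hT' hVT (by rw [hidx]; exact hB)
    -- the image in `X`
    let F : T →* X := f.comp T.subtype
    have hF : ∀ t : T, F t = f (t : P) := fun _ => rfl
    have hFk : F.ker = V.subgroupOf T := by
      ext t
      rw [MonoidHom.mem_ker, hF, ← MonoidHom.mem_ker, hk]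
      rfl
    have hmem : ∀ g : X, g ∈ F.range ↔ ρ g l = l := by
      intro g
      obtain ⟨x, rfl⟩ := hf g
      rw [hρ, ← hT]
      constructor
      · rintro ⟨t, ht⟩
        rw [hF] at ht
        have h2 : (t : P)⁻¹ * x ∈ V := by
          rw [← hk, MonoidHom.mem_ker, map_mul, map_inv, ht, inv_mul_cancel]
        have h3 : x = t * ((t : P)⁻¹ * x) := by group
        rw [h3]
        exact mul_mem t.2 (hVT h2)
      · intro hx
        exact ⟨⟨x, hx⟩, rfl⟩
    let e1 : T ⧸ V.subgroupOf T ≃* F.range :=
      (QuotientGroup.quotientMulEquivOfEq hFk.symm).trans (QuotientGroup.quotientKerEquivRange F)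
    have hc1 : Nat.card F.range = V.relIndex T := by
      rw [← Nat.card_congr e1.toEquiv]
      rfl
    have hc2 : V.relIndex T * T.index = Nat.card X := by
      rw [Subgroup.relIndex_mul_index hVT, hidx]
    have hpos : 0 < V.relIndex T := by
      rw [← hc1]; exact Nat.card_pos
    have hidx2 : F.range.index = T.index := by
      have h1 := F.range.card_mul_index
      rw [hc1, ← hc2] at h1
      exact Nat.eq_of_mul_eq_mul_left hpos h1
    refine ⟨F.range, hmem, ?_, ?_, ?_⟩
    · intro h
      apply hTtop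
      rw [← Subgroup.index_eq_one, ← hidx2, h, Subgroup.index_top]
    · rw [← card_conj_congr e1, hc1, ← hc2, Nat.mul_left_comm]
      exact Nat.mul_lt_mul_of_pos_left hnc hpos
    · obtain ⟨d, hd, hdd⟩ := hdvd ψ
      exact ⟨d, hd, by rw [hidx2]; exact hψ.trans hdd⟩

/-- an irreducible character of `N` has degree dividing a degree of `G` -/
theorem exists_dvd {G : Type u} [Group G] [Finite G] (N : Subgroup G) [N.Normal] (θ : IrrCharacter N) :
    ∃ d ∈ charDegrees G, charDegree (θ : N → ℂ) ∣ d := by
  obtain ⟨χ, hχ, h⟩ := exists_over_subtype N θ.2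
  exact ⟨charDegree χ, ⟨⟨χ, hχ⟩, rfl⟩, (charDegree_dvd_of_over N hχ θ.2 h).1⟩

/-- **NC**: no noncentral abelian minimal normal `V` with `N / V = X` in a group with degrees in `D` -/
theorem noncentral {c : ℕ} {X : Type v} [Group X] [Finite X] {D : Set ℕ} (hD0 : ∀ d ∈ D, 0 < d)
    (hD : ∀ d ∈ D, d ^ 2 < c * Nat.card X) (habs : Chief.{u} c D X)
    {G : Type u} [Group G] [Finite G] (h : charDegrees G ⊆ D) (N V : Subgroup G) [N.Normal] [V.Normal]
    (hVN : V ≤ N) (e : (N ⧸ V.subgroupOf N) ≃* X) (hab : ⁅V, V⁆ = ⊥) (hne : V ≠ ⊥) (hVN' : ⁅V, N⁆ = V) : False := by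
  let f : N →* X := e.toMonoidHom.comp (QuotientGroup.mk' (V.subgroupOf N))
  have hker : f.ker = V.subgroupOf N := by
    ext x
    rw [MonoidHom.mem_ker]
    show e (QuotientGroup.mk' _ x) = 1 ↔ _
    rw [EmbeddingLike.map_eq_one_iff, ← MonoidHom.mem_ker, QuotientGroup.ker_mk']
  have h1 := frame (c := c) (D := D) (P := N) (fun χ => ?_) (fun χ => ?_) (V.subgroupOf N) ?_ ?_ f
    (e.surjective.comp (QuotientGroup.mk'_surjective _)) hker habs
  · rw [Subgroup.subgroupOf_eq_bot, disjoint_iff, inf_eq_left.2 hVN] at h1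
    exact hne h1
  · obtain ⟨d, hd, h2⟩ := exists_dvd N χ
    exact ⟨d, h hd, h2⟩
  · obtain ⟨d, hd, h2⟩ := exists_dvd N χ
    exact lt_of_le_of_lt (Nat.pow_le_pow_left (Nat.le_of_dvd (hD0 d (h hd)) h2) 2) (hD d (h hd))
  · intro a ha b hb
    have h2 : ⁅(a : G), (b : G)⁆ = 1 := by
      have h3 := Subgroup.commutator_mem_commutator (Subgroup.mem_subgroupOf.1 ha) (Subgroup.mem_subgroupOf.1 hb)
      rwa [hab, Subgroup.mem_bot] at h3
    exact Subtype.ext (commutatorElement_eq_one_iff_mul_comm.1 h2)
  · apply Subgroup.map_injective N.subtype_injective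
    rw [Subgroup.map_commutator, Subgroup.subgroupOf_map_subtype, ← MonoidHom.range_eq_map, Subgroup.range_subtype,
      inf_eq_left.2 hVN, hVN']

theorem pos_of_mem {G : Type u} [Group G] [Finite G] {d : ℕ} (hd : d ∈ charDegrees G) : 0 < d := by
  obtain ⟨ψ, rfl⟩ := hd
  exact Nat.pos_of_ne_zero fun h0 => by
    have := Characters.Core.isIrr_apply_one_ne_zero ψ.2
    rw [← charDegree_cast (isIrr_isCharacter ψ.2), h0] at this
    exact this Nat.cast_zero

theorem sq_lt_of_mem {G : Type u} [Group G] [Finite G] (h1 : 1 < Nat.card G) {d : ℕ} (hd : d ∈ charDegrees G) :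
    d ^ 2 < Nat.card G := by
  obtain ⟨χ, rfl⟩ := hd
  by_cases h : (χ : G → ℂ) = 1
  · rw [h, H495.Cod.charDegree_one]
    omega
  · have := H495.Cod.sq_lt χ h
    omega

/-- the two facts on `D` needed for `noncentral` -/
theorem deg_pos {c : ℕ} {X : Type v} [Group X] [Finite X] {D : Set ℕ} (hD : Deg c X D) : ∀ d ∈ D, 0 < d := by
  intro d hd
  rcases hD with rfl | ⟨_, rfl⟩
  · exact pos_of_mem hd
  · exact pos_of_mem hd

theorem deg_sq {c : ℕ} {X : Type v} [Group X] [Finite X] [IsSimpleGroup X] (hna : ¬ IsMulCommutative X) (hc : 1 ≤ c)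
    (hout : (MulAut.conj : X →* MulAut X).range.index ≤ c) {D : Set ℕ} (hD : Deg c X D) :
    ∀ d ∈ D, d ^ 2 < c * Nat.card X := by
  have h1 : 1 < Nat.card X := Finite.one_lt_card
  intro d hd
  rcases hD with rfl | ⟨_, rfl⟩
  · exact (sq_lt_of_mem h1 hd).trans_le (Nat.le_mul_of_pos_left _ hc)
  · have hZ : Subgroup.center X = ⊥ := by
      rcases (Subgroup.center X).normal_of_characteristic.eq_bot_or_eq_top with h | h
      · exact h
      · exact absurd ⟨⟨fun a b => by
          have : a ∈ Subgroup.center X := by rw [h]; trivial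
          exact ((Subgroup.mem_center_iff.1 this) b).symm⟩⟩ hna
    have hinj : Function.Injective (MulAut.conj : X →* MulAut X) := by
      rw [← MonoidHom.ker_eq_bot_iff, ← hZ]
      ext a
      rw [MonoidHom.mem_ker, Subgroup.mem_center_iff]
      constructor
      · intro h b
        have := DFunLike.congr_fun h b
        simp only [MulAut.conj_apply, MulAut.one_apply] at this
        rw [mul_inv_eq_iff_eq_mul] at this
        exact this.symm
      · intro h
        ext b
        simp only [MulAut.conj_apply, MulAut.one_apply]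
        rw [← h b, mul_inv_cancel_right]
    have h2 : Nat.card (MulAut.conj : X →* MulAut X).range = Nat.card X :=
      (Nat.card_congr (MonoidHom.ofInjective hinj).toEquiv).symm
    have h3 := (MulAut.conj : X →* MulAut X).range.card_mul_index
    rw [h2] at h3
    have h4 : Nat.card (MulAut X) ≤ c * Nat.card X := by
      rw [← h3, Nat.mul_comm c]
      exact Nat.mul_le_mul_left _ hout
    exact (sq_lt_of_mem (h1.trans_le (by
      rw [← h3]
      exact Nat.le_mul_of_pos_right _ (Nat.pos_of_ne_zero Subgroup.index_ne_zero_of_finite))) hd).trans_le h4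

end Cfsg.Agent.H211.S8
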