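import Cfsg.Agent.H211.S8.Nc

/-!
# S4908, box NC, sharp form: no noncentral abelian chief factor below a sporadic group

`SharpT D T`: the degrees `|X : T| e_i` of the characters over a nontrivial linear character with inertia group `T`.
`ChiefS D X` is weaker than `Chief c D X`; `noncentralS`: it still kills a noncentral minimal normal abelian `V`.
-/

set_option autoImplicit false
set_option linter.unusedSectionVars false
set_option linter.style.haveILetI false

universe u v

namespace Cfsg.Agent.H211.S8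

open Cfsg Cfsg.Agent.Characters.Core Cfsg.Agent.H686.CharKit Cfsg.Agent.H672 Cfsg.Agent.H211.Hup Cfsg.Agent.H704.S8
open Subgroup
open scoped ComplexConjugate commutatorElement

/-- the degrees `|X : T| e_i` over a linear character with inertia group `T` -/
def SharpT {X : Type v} [Group X] (D : Set ℕ) (T : Subgroup X) : Prop :=
  ∃ (n : ℕ) (e : Fin n → ℕ), n ≤ Nat.card (ConjClasses T) ∧ ∑ i, (e i) ^ 2 = Nat.card T ∧
    ∀ i, 0 < e i ∧ ∃ d ∈ D, T.index * e i ∣ d

/-- the sharp form of `Chief` -/
def ChiefS (D : Set ℕ) (X : Type v) [Group X] : Prop :=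
  ∀ (Λ : Type u) [CommGroup Λ] [Finite Λ] (ρ : X →* MulAut Λ),
    (∀ x : Λ, x ≠ 1 → ∃ T : Subgroup X, (∀ g : X, g ∈ T ↔ ρ g x = x) ∧ T ≠ ⊤ ∧ SharpT D T) → ∀ x : Λ, x = 1

/-- `Chief` implies `ChiefS` -/
theorem Chief.sharp {c : ℕ} {X : Type v} [Group X] [Finite X] {D : Set ℕ} (hD0 : ∀ d ∈ D, 0 < d)
    (hD : ∀ d ∈ D, d ^ 2 < c * Nat.card X) (h : Chief.{u} c D X) : ChiefS.{u} D X := by
  intro Λ _ _ ρ hx
  refine h Λ ρ fun x hx1 => ?_
  obtain ⟨T, h1, h2, n, e, h3, h4, h5⟩ := hx x hx1
  have hT0 : 0 < T.index := Nat.pos_of_ne_zero Subgroup.index_ne_zero_of_finite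
  have hc0 : 0 < Nat.card T := Nat.card_pos
  have hn : 0 < n := by
    rcases Nat.eq_zero_or_pos n with h0 | h0
    · subst h0
      rw [Fin.sum_univ_zero] at h4
      omega
    · exact h0
  refine ⟨T, h1, h2, ?_, ?_⟩
  · have h6 : ∀ i, (T.index * e i) ^ 2 < c * Nat.card X := by
      intro i
      obtain ⟨-, d, hd, hdd⟩ := h5 i
      exact lt_of_le_of_lt (Nat.pow_le_pow_left (Nat.le_of_dvd (hD0 d hd) hdd) 2) (hD d hd)
    have : Nonempty (Fin n) := ⟨⟨0, hn⟩⟩
    have h7 := Finset.sum_lt_sum_of_nonempty (s := (Finset.univ : Finset (Fin n))) Finset.univ_nonempty fun i _ => h6 i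
    rw [Finset.sum_const, Finset.card_univ, Fintype.card_fin, smul_eq_mul] at h7
    have h8 : ∑ i, (T.index * e i) ^ 2 = T.index ^ 2 * Nat.card T := by
      rw [← h4, Finset.mul_sum]
      exact Finset.sum_congr rfl fun i _ => by ring
    rw [h8] at h7
    have hX : Nat.card X = Nat.card T * T.index := (T.card_mul_index).symm
    rw [hX] at h7 ⊢
    have h9 : T.index < c * n := by
      have h10 : (T.index * Nat.card T) * T.index < (T.index * Nat.card T) * (c * n) := by nlinarith
      exact Nat.lt_of_mul_lt_mul_left h10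
    have h10 : T.index < c * Nat.card (ConjClasses T) := h9.trans_le (Nat.mul_le_mul_left c h3)
    calc Nat.card T * T.index < Nat.card T * (c * Nat.card (ConjClasses T)) := Nat.mul_lt_mul_of_pos_left h10 hc0
      _ = c * (Nat.card T * Nat.card (ConjClasses T)) := by ring
  · obtain ⟨-, d, hd, hdd⟩ := h5 ⟨0, hn⟩
    exact ⟨d, hd, (dvd_mul_right _ _).trans hdd⟩

section Nc

variable {P : Type u} [Group P] [Finite P]

open Cfsg.Agent.OddOrderCharacters.PF9.CliffGen (irr_ind resTo)
open Cfsg.Agent.OddOrderCharacters.NormalInduced (conjFn)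

/-- the degrees over a linear character -/
theorem nc_sharp (V : Subgroup P) [hV : V.Normal] (l : V →* ℂˣ) (T : Subgroup P)
    (hT : ∀ g, g ∈ T ↔ ∀ v : V, l (MulAut.conjNormal g v) = l v) (hVT : V ≤ T) :
    ∃ (n : ℕ) (e : Fin n → ℕ), n ≤ Nat.card (ConjClasses (T ⧸ V.subgroupOf T)) ∧
      ∑ i, (e i) ^ 2 = (V.subgroupOf T).index ∧
      ∀ i, 0 < e i ∧ ∃ χ : IrrCharacter P, charDegree (χ : P → ℂ) = T.index * e i := by
  classical
  have := Fintype.ofFinite P
  have := Fintype.ofFinite V
  have := Fintype.ofFinite T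
  have := finite_irr (G := T)
  have := Fintype.ofFinite (IrrCharacter T)
  let e : V.subgroupOf T ≃* V := Subgroup.subgroupOfEquivOfLe hVT
  let l' : V.subgroupOf T →* ℂˣ := l.comp e.toMonoidHom
  have hl' : ∀ x : V.subgroupOf T, l' x = l (e x) := fun _ => rfl
  have he : ∀ x : V.subgroupOf T, ((e x : V) : P) = ((x : T) : P) := fun _ => rfl
  have hinv : ∀ (t : T) (v : V.subgroupOf T), l' (MulAut.conjNormal t v) = l' v := by
    intro t v
    rw [hl', hl', ← (hT t).1 t.2 (e v)]
    congr 1
  have hsum := sum_sq_ov (V.subgroupOf T) l' hinv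
  set S := Finset.univ.filter fun χ : IrrCharacter T => Ov (V.subgroupOf T) l' (χ : T → ℂ) with hS
  have hdeg' : ∀ χ ∈ S, ∃ ψ : IrrCharacter P, charDegree (ψ : P → ℂ) = T.index * charDegree (χ : T → ℂ) := by
    intro χ hχ
    have hov : Ov (V.subgroupOf T) l' (χ : T → ℂ) := (Finset.mem_filter.1 hχ).2
    have h1 : IsIrrCharacter P (indFun T (χ : T → ℂ)) := by
      refine irr_ind (N := V) (θ := lf l) (isIrr_lf l) (fun g => ?_) hVT χ.2 ?_
      · rw [hT, funext_iff]
        refine forall_congr' fun v => ?_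
        exact ⟨fun h => congrArg Units.val h, fun h => Units.ext h⟩
      · have h2 : resTo hVT (χ : T → ℂ) = ((χ : T → ℂ) 1) • lf l := by
          funext v
          have h3 := hov (e.symm v) 1
          rw [mul_one, hl', MulEquiv.apply_symm_apply] at h3
          have h4 : ((e.symm v : V.subgroupOf T) : T) = ⟨(v : P), hVT v.2⟩ := by
            apply Subtype.ext
            rw [← he, MulEquiv.apply_symm_apply]
          rw [h4] at h3
          show (χ : T → ℂ) ⟨(v : P), hVT v.2⟩ = _
          rw [h3, Pi.smul_apply, smul_eq_mul, lf_apply, mul_comm]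
        rw [h2, classInner_smul_left, classInner_irr_self (isIrr_lf l), mul_one]
        exact isIrr_apply_one_ne_zero χ.2
    have h5 : charDegree (indFun T (χ : T → ℂ)) = T.index * charDegree (χ : T → ℂ) := by
      apply charDegree_of_eq
      rw [OddOrderCharacters.InertiaAbelian.indFun_one, ← charDegree_irr χ]
      push_cast; rfl
    exact ⟨⟨_, h1⟩, h5⟩
  refine ⟨S.card, fun i => charDegree ((S.equivFin.symm i : IrrCharacter T) : T → ℂ), ?_, ?_, fun i => ⟨?_, ?_⟩⟩
  · have h11 := card_ov_le (V.subgroupOf T) l'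
    rwa [Nat.card_eq_fintype_card, Fintype.card_subtype] at h11
  · rw [← hsum, ← Finset.sum_coe_sort S fun χ => charDegree (χ : T → ℂ) ^ 2]
    exact Fintype.sum_equiv S.equivFin.symm _ _ fun i => rfl
  · obtain ⟨m, hm, hm'⟩ := isIrr_apply_one (S.equivFin.symm i : IrrCharacter T).2
    show 0 < charDegree ((S.equivFin.symm i : IrrCharacter T) : T → ℂ)
    rw [charDegree_of_eq hm']
    exact hm
  · exact hdeg' _ (S.equivFin.symm i).2

end Nc

theorem frameS {X : Type v} [Group X] [Finite X] {D : Set ℕ} {P : Type u} [Group P] [Finite P]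
    (hdvd : ∀ χ : IrrCharacter P, ∃ d ∈ D, charDegree (χ : P → ℂ) ∣ d)
    (V : Subgroup P) [hV : V.Normal] (hab : ∀ a ∈ V, ∀ b ∈ V, a * b = b * a) (hVP : ⁅V, (⊤ : Subgroup P)⁆ = V)
    (f : P →* X) (hf : Function.Surjective f) (hk : f.ker = V) (habs : ChiefS.{u} D X) : V = ⊥ := by
  classical
  let _ : CommGroup V := { (inferInstance : Group V) with
    mul_comm := fun a b => Subtype.ext (hab a a.2 b b.2) }
  have hcard : Nat.card (V →* ℂˣ) = Nat.card V := CommGroup.card_monoidHom_of_hasEnoughRootsOfUnity V ℂ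
  have hfin : Finite (V →* ℂˣ) := Nat.finite_of_card_ne_zero (by rw [hcard]; exact Nat.card_pos.ne')
  have hidx : V.index = Nat.card X := by
    rw [← hk, Subgroup.index_ker, MonoidHom.range_eq_top.2 hf, Nat.card_congr Subgroup.topEquiv.toEquiv]
  -- the action factors through `f`
  have hker : f.ker ≤ (dual V).ker := by
    intro a ha
    rw [hk] at ha
    rw [MonoidHom.mem_ker]
    apply MulEquiv.ext
    intro l
    show dual V a l = l
    rw [dual_eq_iff]
    intro v
    congr 1
    apply Subtype.ext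
    show a * (v : P) * a⁻¹ = v
    rw [hab a ha v v.2, mul_inv_cancel_right]
  obtain ⟨ρ, hρ⟩ : ∃ ρ : X →* MulAut (V →* ℂˣ), ∀ g, ρ (f g) = dual V g := by
    refine ⟨f.liftOfSurjective hf ⟨dual V, hker⟩, fun g => ?_⟩
    exact f.liftOfRightInverse_comp_apply _ _ ⟨dual V, hker⟩ g
  have key := habs (V →* ℂˣ) ρ ?_
  · have h1 : Nat.card (V →* ℂˣ) = 1 := by
      rw [Nat.card_eq_one_iff_unique]
      exact ⟨⟨fun a b => by rw [key a, key b]⟩, ⟨1⟩⟩
    rw [hcard] at h1
    exact Subgroup.eq_bot_of_card_eq V h1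
  · intro l hl
    -- the inertia group
    let T : Subgroup P :=
      { carrier := {g | dual V g l = l}
        one_mem' := by
          show dual V 1 l = l
          rw [map_one]; rfl
        mul_mem' := by
          intro a b ha hb
          show dual V (a * b) l = l
          rw [map_mul, MulAut.mul_apply, show dual V b l = l from hb, show dual V a l = l from ha]
        inv_mem' := by
          intro a ha
          show dual V a⁻¹ l = l
          have h1 : dual V a l = l := ha
          conv_lhs => rw [← h1]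
          rw [← MulAut.mul_apply, ← map_mul, inv_mul_cancel, map_one]; rfl }
    have hT : ∀ g, g ∈ T ↔ dual V g l = l := fun g => Iff.rfl
    have hT' : ∀ g, g ∈ T ↔ ∀ v, l (MulAut.conjNormal g v) = l v := fun g => (hT g).trans (dual_eq_iff V g l)
    have hVT : V ≤ T := by
      intro a ha
      rw [← hk] at ha
      rw [hT, MonoidHom.mem_ker.1 (hker ha)]
      rfl
    have hTtop : T ≠ ⊤ := by
      intro h
      apply hl
      have h1 : V ≤ l.ker.map V.subtype := by
        conv_lhs => rw [← hVP]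
        rw [Subgroup.commutator_le]
        intro a ha g _
        have h2 : g ∈ T := by rw [h]; trivial
        have h3 := (hT' g).1 h2 ⟨a, ha⟩
        refine ⟨⟨a, ha⟩ * (MulAut.conjNormal g ⟨a, ha⟩)⁻¹, ?_, ?_⟩
        · show l _ = 1
          rw [map_mul, map_inv, h3, mul_inv_cancel]
        · show a * (g * a * g⁻¹)⁻¹ = a * g * a⁻¹ * g⁻¹
          group
      ext v
      obtain ⟨w, hw, hwv⟩ := h1 v.2
      have h2 : w = v := Subtype.ext hwv
      rw [← h2]
      exact congrArg Units.val hw
    obtain ⟨n, e, hn, hsum, hdeg⟩ := nc_sharp V l T hT' hVT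
    -- the image in `X`
    let F : T →* X := f.comp T.subtype
    have hF : ∀ t : T, F t = f (t : P) := fun _ => rfl
    have hFk : F.ker = V.subgroupOf T := by
      ext t
      rw [MonoidHom.mem_ker, hF, ← MonoidHom.mem_ker, hk]
      rfl
    have hmem : ∀ g : X, g ∈ F.range ↔ ρ g l = l := by
      intro g
      obtain ⟨x, rfl⟩ := hf g
      rw [hρ, ← hT]
      constructor
      · rintro ⟨t, ht⟩
        rw [hF] at ht
        have h2 : (t : P)⁻¹ * x ∈ V := by
          rw [← hk, MonoidHom.mem_ker, map_mul, map_inv, ht, inv_mul_cancel]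
        have h3 : x = t * ((t : P)⁻¹ * x) := by group
        rw [h3]
        exact mul_mem t.2 (hVT h2)
      · intro hx
        exact ⟨⟨x, hx⟩, rfl⟩
    let e1 : T ⧸ V.subgroupOf T ≃* F.range :=
      (QuotientGroup.quotientMulEquivOfEq hFk.symm).trans (QuotientGroup.quotientKerEquivRange F)
    have hc1 : Nat.card F.range = V.relIndex T := by
      rw [← Nat.card_congr e1.toEquiv]
      rfl
    have hc2 : V.relIndex T * T.index = Nat.card X := by
      rw [Subgroup.relIndex_mul_index hVT, hidx]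
    have hpos : 0 < V.relIndex T := by
      rw [← hc1]; exact Nat.card_pos
    have hidx2 : F.range.index = T.index := by
      have h1 := F.range.card_mul_index
      rw [hc1, ← hc2] at h1
      exact Nat.eq_of_mul_eq_mul_left hpos h1
    refine ⟨F.range, hmem, ?_, n, e, ?_, ?_, fun i => ⟨(hdeg i).1, ?_⟩⟩
    · intro h
      apply hTtop
      rw [← Subgroup.index_eq_one, ← hidx2, h, Subgroup.index_top]
    · rwa [← card_conj_congr e1]
    · rw [hsum, hc1]
      rfl
    · obtain ⟨χ, hχ⟩ := (hdeg i).2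
      obtain ⟨d, hd, hdd⟩ := hdvd χ
      exact ⟨d, hd, by rw [hidx2, ← hχ]; exact hdd⟩

/-- **NC**: no noncentral abelian minimal normal `V` with `N / V = X` in a group with degrees in `D` -/
theorem noncentralS {X : Type v} [Group X] [Finite X] {D : Set ℕ} (habs : ChiefS.{u} D X)
    {G : Type u} [Group G] [Finite G] (h : charDegrees G ⊆ D) (N V : Subgroup G) [N.Normal] [V.Normal]
    (hVN : V ≤ N) (e : (N ⧸ V.subgroupOf N) ≃* X) (hab : ⁅V, V⁆ = ⊥) (hne : V ≠ ⊥) (hVN' : ⁅V, N⁆ = V) : False := by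
  let f : N →* X := e.toMonoidHom.comp (QuotientGroup.mk' (V.subgroupOf N))
  have hker : f.ker = V.subgroupOf N := by
    ext x
    rw [MonoidHom.mem_ker]
    show e (QuotientGroup.mk' _ x) = 1 ↔ _
    rw [EmbeddingLike.map_eq_one_iff, ← MonoidHom.mem_ker, QuotientGroup.ker_mk']
  have h1 := frameS (D := D) (P := N) (fun χ => ?_) (V.subgroupOf N) ?_ ?_ f
    (e.surjective.comp (QuotientGroup.mk'_surjective _)) hker habs
  · rw [Subgroup.subgroupOf_eq_bot, disjoint_iff, inf_eq_left.2 hVN] at h1
    exact hne h1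
  · obtain ⟨d, hd, h2⟩ := exists_dvd N χ
    exact ⟨d, h hd, h2⟩
  · intro a ha b hb
    have h2 : ⁅(a : G), (b : G)⁆ = 1 := by
      have h3 := Subgroup.commutator_mem_commutator (Subgroup.mem_subgroupOf.1 ha) (Subgroup.mem_subgroupOf.1 hb)
      rwa [hab, Subgroup.mem_bot] at h3
    exact Subtype.ext (commutatorElement_eq_one_iff_mul_comm.1 h2)
  · apply Subgroup.map_injective N.subtype_injective
    rw [Subgroup.map_commutator, Subgroup.subgroupOf_map_subtype, ← MonoidHom.range_eq_map, Subgroup.range_subtype,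
      inf_eq_left.2 hVN, hVN']

end Cfsg.Agent.H211.S8
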